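import Groth.Agent.HilbBurch.Basic
import Groth.Agent.LocalCrit.Basic
import Groth.Agent.TorLocFlat.Basic
import Mathlib

/-!
# Matrices of relations along flat deformations

Exactness of `A^r → A^{r+1} → A` (a matrix, then its signed maximal minors) passes from the residue
of an Artinian base to a flat algebra, together with flatness of the cokernel; a vector killed by
the matrix is a multiple of the minors.
-/

set_option autoImplicit false

universe u

open IsLocalRing Matrix

namespace Groth.Agent.HBDef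

open HilbBurch

section Ring

variable {A B : Type u} [CommRing A] [CommRing B]

theorem Δ_map {t : ℕ} (ψ : Matrix (Fin (t + 1)) (Fin t) A) (f : A →+* B) (i : Fin (t + 1)) :
    Δ (ψ.map f) i = f (Δ ψ i) := by
  rw [Δ, Δ, map_mul, map_pow, map_neg, map_one, RingHom.map_det]
  rfl

theorem linearCombination_eq {t : ℕ} (a : Fin t → A) (w : Fin t → A) :
    Fintype.linearCombination A a w = ∑ i, w i * a i := by
  simp [Fintype.linearCombination_apply]

/-- A vector killed by an exact matrix is a multiple of its minors. -/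
theorem exists_smul_Δ [IsNoetherianRing A] {t : ℕ} (ψ : Matrix (Fin (t + 1)) (Fin t) A)
    (hinj : Function.Injective ψ.mulVecLin)
    (hex : LinearMap.range ψ.mulVecLin = LinearMap.ker (Fintype.linearCombination A (Δ ψ)))
    (a : Fin (t + 1) → A) (ha : ∀ j, ∑ i, a i * ψ i j = 0) : ∃ c, ∀ i, a i = c * Δ ψ i := by
  classical
  obtain ⟨x, hx, y, hy, hx0, hy0⟩ := (HilbBurch.main ψ _ hinj hex.symm).2
  have hcomm : ∀ i k, Δ ψ i * a k = Δ ψ k * a i := by
    intro i k
    let w : Fin (t + 1) → A := Pi.single i 1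
    have hM : Matrix.vecMul a (aug ψ w) = Pi.single 0 (a i) := by
      ext l
      refine Fin.cases ?_ (fun l => ?_) l
      · simp [Matrix.vecMul, dotProduct, aug, w, Pi.single_apply]
      · simp [Matrix.vecMul, dotProduct, aug, ha l, Fin.succ_ne_zero]
    have h1 := congrArg (fun v => Matrix.vecMul v (aug ψ w).adjugate k) hM
    simp only [Matrix.vecMul_vecMul, Matrix.mul_adjugate, Matrix.single_vecMul, Matrix.row_apply,
      Pi.smul_apply, smul_eq_mul] at h1
    have h2 : (aug ψ w).adjugate 0 k = Δ ψ k := by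
      rw [Matrix.adjugate_fin_succ_eq_det_submatrix,
        show (aug ψ w).submatrix k.succAbove (Fin.succAbove 0) = ψ.submatrix k.succAbove id by
          ext p q; simp [aug]]
      simp [Δ]
    have h3 : (aug ψ w).det = Δ ψ i := by simp [det_aug, w, Pi.single_apply]
    rw [h2, h3, Matrix.vecMul_smul, Matrix.vecMul_one, Pi.smul_apply, smul_eq_mul] at h1
    rw [h1, mul_comm]
  have hscal : ∀ z ∈ CAlgX.minorIdeal ψ t, ∃ g, ∀ i, z * a i = Δ ψ i * g := by
    rw [← span_Δ]
    intro z hz
    induction hz using Submodule.span_induction with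
    | mem z hz => obtain ⟨k, rfl⟩ := hz; exact ⟨a k, fun i => hcomm k i⟩
    | zero => exact ⟨0, fun i => by simp⟩
    | add z₁ z₂ _ _ h1 h2 =>
      obtain ⟨g₁, h1⟩ := h1
      obtain ⟨g₂, h2⟩ := h2
      exact ⟨g₁ + g₂, fun i => by rw [add_mul, mul_add, h1, h2]⟩
    | smul r z₁ _ h1 =>
      obtain ⟨g₁, h1⟩ := h1
      exact ⟨r * g₁, fun i => by rw [smul_eq_mul, mul_assoc, h1]; ring⟩
  obtain ⟨G, hG⟩ := hscal x hx
  obtain ⟨H, hH⟩ := hscal y hy
  have hGH : y * G = x * H := by
    have h1 : ∀ z ∈ CAlgX.minorIdeal ψ t, z * (y * G - x * H) = 0 := by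
      rw [← span_Δ]
      intro z hz
      induction hz using Submodule.span_induction with
      | mem z hz => obtain ⟨k, rfl⟩ := hz; linear_combination x * hH k - y * hG k
      | zero => exact zero_mul _
      | add p q _ _ hp hq => rw [add_mul, hp, hq, add_zero]
      | smul r p _ hp => rw [smul_eq_mul, mul_assoc, hp, mul_zero]
    exact sub_eq_zero.1 (mem_nonZeroDivisors_iff_right.1 hx0 _ (by rw [mul_comm]; exact h1 x hx))
  obtain ⟨c, rfl⟩ := Ideal.mem_span_singleton.1 (hy0 G (Ideal.mem_span_singleton.2 ⟨H, hGH⟩))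
  exact ⟨c, fun i => sub_eq_zero.1
    (mem_nonZeroDivisors_iff_right.1 hx0 _ (by rw [sub_mul]; linear_combination hG i))⟩

theorem eq_zero_of_smul_Δ {t : ℕ} (ψ : Matrix (Fin (t + 1)) (Fin t) A) (hinj : Function.Injective ψ.mulVecLin)
    (c : A) (hc : ∀ i, c * Δ ψ i = 0) : c = 0 := by
  refine mccoy ψ hinj c fun f g => ?_
  have h : ∀ z ∈ CAlgX.minorIdeal ψ t, c * z = 0 := by
    rw [← span_Δ]
    intro z hz
    induction hz using Submodule.span_induction with
    | mem z hz => obtain ⟨k, rfl⟩ := hz; exact hc k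
    | zero => exact mul_zero _
    | add p q _ _ hp hq => rw [mul_add, hp, hq, add_zero]
    | smul r p _ hp => rw [smul_eq_mul, mul_left_comm, hp, mul_zero]
  exact h _ (minor_mem ψ f g)

end Ring

section Flat

variable {C : Type u} [CommRing C] [IsLocalRing C] {A : Type u} [CommRing A] [Algebra C A]

theorem pi_mem_smul_top_iff (K : Ideal C) {r : ℕ} (x : Fin r → A) :
    x ∈ K • (⊤ : Submodule C (Fin r → A)) ↔ ∀ i, x i ∈ K.map (algebraMap C A) := by
  classical
  have h1 : ∀ z : A, z ∈ K • (⊤ : Submodule C A) ↔ z ∈ K.map (algebraMap C A) := fun z => by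
    rw [Ideal.smul_top_eq_map, Submodule.restrictScalars_mem]
  constructor
  · intro hx i
    rw [← h1]
    have := Submodule.mem_map_of_mem (f := (LinearMap.proj i : (Fin r → A) →ₗ[C] A)) hx
    rw [Submodule.map_smul''] at this
    exact Submodule.smul_mono le_rfl le_top this
  · intro h
    rw [← Finset.univ_sum_single x]
    refine Submodule.sum_mem _ fun i _ => ?_
    have := Submodule.mem_map_of_mem (f := (LinearMap.single C (fun _ : Fin r => A) i)) ((h1 _).2 (h i))
    rw [Submodule.map_smul''] at this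
    exact Submodule.smul_mono le_rfl le_top this

theorem mem_smul_top_iff (K : Ideal C) (z : A) :
    z ∈ K • (⊤ : Submodule C A) ↔ z ∈ K.map (algebraMap C A) := by
  rw [Ideal.smul_top_eq_map, Submodule.restrictScalars_mem]

instance flat_pi [Module.Flat C A] (r : ℕ) : Module.Flat C (Fin r → A) :=
  Module.Flat.of_linearEquiv (DirectSum.linearEquivFunOnFintype C (Fin r) (fun _ => A)).symm

/-- Exactness modulo the maximal ideal implies exactness and flatness of the cokernel. -/
theorem exact_of_residue {n : ℕ} (hn : maximalIdeal C ^ n = ⊥) [Module.Flat C A] {r : ℕ}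
    (ψ : Matrix (Fin (r + 1)) (Fin r) A) (a : Fin (r + 1) → A) (ha : ∀ j, ∑ i, a i * ψ i j = 0)
    (h1 : ∀ x : Fin r → A, (∀ i, ψ.mulVec x i ∈ (maximalIdeal C).map (algebraMap C A)) →
      ∀ j, x j ∈ (maximalIdeal C).map (algebraMap C A))
    (h2 : ∀ w : Fin (r + 1) → A, ∑ i, w i * a i ∈ (maximalIdeal C).map (algebraMap C A) →
      ∃ x : Fin r → A, ∀ i, w i - ψ.mulVec x i ∈ (maximalIdeal C).map (algebraMap C A)) :
    Function.Injective ψ.mulVecLin ∧
      LinearMap.range ψ.mulVecLin = LinearMap.ker (Fintype.linearCombination A a) ∧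
      Module.Flat C (A ⧸ Ideal.span (Set.range a)) := by
  let u : (Fin r → A) →ₗ[C] (Fin (r + 1) → A) := ψ.mulVecLin.restrictScalars C
  let v : (Fin (r + 1) → A) →ₗ[C] A := (Fintype.linearCombination A a).restrictScalars C
  have hv : ∀ w, v w = ∑ i, w i * a i := fun w => linearCombination_eq a w
  have hvu : ∀ x, v (u x) = 0 := fun x => by
    rw [hv]
    simp only [u, LinearMap.coe_restrictScalars, Matrix.mulVecLin_apply, Matrix.mulVec, dotProduct,
      Finset.sum_mul]
    rw [Finset.sum_comm]
    refine Finset.sum_eq_zero fun j _ => ?_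
    rw [← mul_zero (x j), ← ha j, Finset.mul_sum]
    exact Finset.sum_congr rfl fun i _ => by ring
  have hu1 : ∀ (J : Ideal C) x, u x ∈ J • (⊤ : Submodule C (Fin (r + 1) → A)) →
      x ∈ J • (⊤ : Submodule C (Fin r → A)) := fun J x hx => by
    have hres : Function.Injective (u.lTensor (ResidueField C)) :=
      (LocalCrit.quot_lTensor_injective_iff (maximalIdeal C) u).2 fun y hy => by
        rw [pi_mem_smul_top_iff] at hy ⊢
        exact h1 y hy
    have h := LocalCrit.mem_pow_sup_smul_of_map_mem u hres hx n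
    rwa [hn, bot_sup_eq] at h
  have huinj : Function.Injective u := (injective_iff_map_eq_zero u).2 fun x hx => by
    simpa using hu1 ⊥ x (by simp [hx])
  have hK : Module.Flat C ((Fin (r + 1) → A) ⧸ LinearMap.range u) :=
    LocalCrit.flat_of_exact u huinj (LinearMap.range u).mkQ (Submodule.mkQ_surjective _)
      (LinearMap.exact_map_mkQ_range u) fun J _ => hu1 J
  have hle : LinearMap.range u ≤ LinearMap.ker v := by
    rintro _ ⟨x, rfl⟩; exact hvu x
  let vb : ((Fin (r + 1) → A) ⧸ LinearMap.range u) →ₗ[C] A := (LinearMap.range u).liftQ v hle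
  have hvb1 : ∀ (J : Ideal C) x, vb x ∈ J • (⊤ : Submodule C A) →
      x ∈ J • (⊤ : Submodule C ((Fin (r + 1) → A) ⧸ LinearMap.range u)) := fun J x hx => by
    have hres : Function.Injective (vb.lTensor (ResidueField C)) :=
      (LocalCrit.quot_lTensor_injective_iff (maximalIdeal C) vb).2 fun y hy => by
        obtain ⟨w, rfl⟩ := Submodule.mkQ_surjective _ y
        rw [show vb ((LinearMap.range u).mkQ w) = v w from rfl, mem_smul_top_iff, hv] at hy
        obtain ⟨x, hx⟩ := h2 w hy
        have hd : w - u x ∈ maximalIdeal C • (⊤ : Submodule C (Fin (r + 1) → A)) :=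
          (pi_mem_smul_top_iff _ _).2 hx
        have := Submodule.mem_map_of_mem (f := (LinearMap.range u).mkQ) hd
        rw [Submodule.map_smul'', map_sub,
          show (LinearMap.range u).mkQ (u x) = 0 from (Submodule.Quotient.mk_eq_zero _).2 ⟨x, rfl⟩, sub_zero] at this
        exact Submodule.smul_mono le_rfl le_top this
    have h := LocalCrit.mem_pow_sup_smul_of_map_mem vb hres hx n
    rwa [hn, bot_sup_eq] at h
  have hvbinj : Function.Injective vb := (injective_iff_map_eq_zero vb).2 fun x hx => by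
    simpa using hvb1 ⊥ x (by simp [hx])
  refine ⟨huinj, le_antisymm (fun w hw => hle hw) fun w hw => ?_, ?_⟩
  · have hw' : vb ((LinearMap.range u).mkQ w) = 0 := hw
    obtain ⟨x, hx⟩ := (Submodule.Quotient.mk_eq_zero _).1 (hvbinj (hw'.trans (map_zero vb).symm))
    exact ⟨x, hx⟩
  · refine LocalCrit.flat_of_exact vb hvbinj ((Ideal.Quotient.mkₐ C (Ideal.span (Set.range a))).toLinearMap)
      Ideal.Quotient.mk_surjective (fun z => ?_) fun J _ => hvb1 J
    constructor
    · intro hz
      obtain ⟨w, hw⟩ := (Ideal.mem_span_range_iff_exists_fun).1 (Ideal.Quotient.eq_zero_iff_mem.1 hz)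
      exact ⟨(LinearMap.range u).mkQ w, (hv w).trans hw⟩
    · rintro ⟨q, rfl⟩
      obtain ⟨w, rfl⟩ := Submodule.mkQ_surjective _ q
      refine Ideal.Quotient.eq_zero_iff_mem.2 ?_
      show v w ∈ Ideal.span (Set.range a)
      rw [hv]
      exact Ideal.sum_mem _ fun i _ => Ideal.mul_mem_left _ _ (Ideal.subset_span ⟨i, rfl⟩)

/-- Exactness with flat cokernel gives exactness modulo every ideal of the base. -/
theorem residue_of_exact (K : Ideal C) [Module.Flat C A] {r : ℕ} (ψ : Matrix (Fin (r + 1)) (Fin r) A)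
    (a : Fin (r + 1) → A) (hinj : Function.Injective ψ.mulVecLin)
    (hex : LinearMap.range ψ.mulVecLin = LinearMap.ker (Fintype.linearCombination A a))
    [Module.Flat C (A ⧸ Ideal.span (Set.range a))] :
    (∀ x : Fin r → A, (∀ i, ψ.mulVec x i ∈ K.map (algebraMap C A)) → ∀ j, x j ∈ K.map (algebraMap C A)) ∧
    (∀ w : Fin (r + 1) → A, ∑ i, w i * a i ∈ K.map (algebraMap C A) →
      ∃ x : Fin r → A, ∀ i, w i - ψ.mulVec x i ∈ K.map (algebraMap C A)) := by
  let u : (Fin r → A) →ₗ[C] (Fin (r + 1) → A) := ψ.mulVecLin.restrictScalars C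
  let v : (Fin (r + 1) → A) →ₗ[C] A := (Fintype.linearCombination A a).restrictScalars C
  let S : Submodule C A := (Ideal.span (Set.range a)).restrictScalars C
  let π : A →ₗ[C] A ⧸ Ideal.span (Set.range a) := (Ideal.Quotient.mkₐ C (Ideal.span (Set.range a))).toLinearMap
  have hπ : Function.Exact S.subtype π := fun z => by
    constructor
    · intro hz; exact ⟨⟨z, Ideal.Quotient.eq_zero_iff_mem.1 hz⟩, rfl⟩
    · rintro ⟨z, rfl⟩; exact Ideal.Quotient.eq_zero_iff_mem.2 z.2
  have hS : Module.Flat C S :=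
    TorLocFlat.flat_ker S.subtype π Subtype.val_injective Ideal.Quotient.mk_surjective hπ
  let v' : (Fin (r + 1) → A) →ₗ[C] S := v.codRestrict S fun w => by
    show Fintype.linearCombination A a w ∈ Ideal.span (Set.range a)
    rw [linearCombination_eq]
    exact Ideal.sum_mem _ fun i _ => Ideal.mul_mem_left _ _ (Ideal.subset_span ⟨i, rfl⟩)
  have hv' : Function.Surjective v' := fun s => by
    obtain ⟨w, hw⟩ := (Ideal.mem_span_range_iff_exists_fun).1 s.2
    exact ⟨w, Subtype.ext ((linearCombination_eq a w).trans hw)⟩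
  have huv : Function.Exact u v' := fun w => by
    constructor
    · intro hw
      have h : w ∈ LinearMap.ker (Fintype.linearCombination A a) := congrArg Subtype.val hw
      rw [← hex] at h
      exact h
    · rintro ⟨x, rfl⟩
      have h : ψ.mulVecLin x ∈ LinearMap.ker (Fintype.linearCombination A a) := hex ▸ ⟨x, rfl⟩
      exact Subtype.ext h
  refine ⟨fun x hx => ?_, fun w hw => ?_⟩
  · exact (pi_mem_smul_top_iff K x).1 (LocalCrit.mem_smul_of_map_mem_of_mulMap_injective u hinj v' hv' huv K
      (LocalCrit.mulMap_injective K) ((pi_mem_smul_top_iff K _).2 hx))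
  · have h1 : v' w ∈ K • (⊤ : Submodule C S) :=
      LocalCrit.mem_smul_of_map_mem_of_mulMap_injective S.subtype Subtype.val_injective π
        Ideal.Quotient.mk_surjective hπ K (LocalCrit.mulMap_injective K) ((mem_smul_top_iff K _).2 (by
          show v w ∈ _
          rw [show v w = ∑ i, w i * a i from linearCombination_eq a w]; exact hw))
    rw [← LinearMap.range_eq_top.2 hv', LinearMap.range_eq_map, ← Submodule.map_smul''] at h1
    obtain ⟨q, hq, hqe⟩ := h1
    obtain ⟨x, hx⟩ := (huv (w - q)).1 (by rw [map_sub, hqe, sub_self])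
    refine ⟨x, fun i => ?_⟩
    have hx' : ψ.mulVec x = w - q := hx
    rw [hx', Pi.sub_apply, sub_sub_cancel]
    exact (pi_mem_smul_top_iff K q).1 hq i

/-- Relations modulo an ideal lift, when the quotient is flat. -/
theorem exists_lift_relations (K : Ideal C) {r s : ℕ} (a : Fin r → A)
    [Module.Flat C (A ⧸ Ideal.span (Set.range a))] (φ : Matrix (Fin r) (Fin s) (A ⧸ K.map (algebraMap C A)))
    (h : ∀ j, ∑ i, Ideal.Quotient.mk _ (a i) * φ i j = 0) :
    ∃ ψ : Matrix (Fin r) (Fin s) A, ψ.map (Ideal.Quotient.mk (K.map (algebraMap C A))) = φ ∧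
      ∀ j, ∑ i, a i * ψ i j = 0 := by
  choose l hl using fun i j => Ideal.Quotient.mk_surjective (φ i j)
  let P := K.map (algebraMap C A)
  let S : Submodule C A := (Ideal.span (Set.range a)).restrictScalars C
  let π : A →ₗ[C] A ⧸ Ideal.span (Set.range a) := (Ideal.Quotient.mkₐ C (Ideal.span (Set.range a))).toLinearMap
  have hπ : Function.Exact S.subtype π := fun z => by
    constructor
    · intro hz; exact ⟨⟨z, Ideal.Quotient.eq_zero_iff_mem.1 hz⟩, rfl⟩
    · rintro ⟨z, rfl⟩; exact Ideal.Quotient.eq_zero_iff_mem.2 z.2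
  have key : ∀ j, ∃ q : Fin r → A, (∀ i, q i ∈ P) ∧ ∑ i, a i * q i = ∑ i, a i * l i j := by
    intro j
    let d : S := ⟨∑ i, a i * l i j, Ideal.sum_mem _ fun i _ => Ideal.mul_mem_right _ _ (Ideal.subset_span ⟨i, rfl⟩)⟩
    have hd : d ∈ K • (⊤ : Submodule C S) :=
      LocalCrit.mem_smul_of_map_mem_of_mulMap_injective S.subtype Subtype.val_injective π
        Ideal.Quotient.mk_surjective hπ K (LocalCrit.mulMap_injective K) ((mem_smul_top_iff K _).2 (by
          show ∑ i, a i * l i j ∈ P
          rw [← Ideal.Quotient.eq_zero_iff_mem, map_sum, ← h j]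
          exact Finset.sum_congr rfl fun i _ => by rw [map_mul, hl]))
    refine Submodule.smul_induction_on (p := fun d : S => ∃ q : Fin r → A, (∀ i, q i ∈ P) ∧
      ∑ i, a i * q i = (d : A)) hd (fun c hc s _ => ?_) fun s t ⟨q, hq, hqe⟩ ⟨q', hq', hqe'⟩ => ?_
    · obtain ⟨w, hw⟩ := (Ideal.mem_span_range_iff_exists_fun).1 s.2
      refine ⟨fun i => algebraMap C A c * w i, fun i => P.mul_mem_right _ (Ideal.mem_map_of_mem _ hc), ?_⟩
      show _ = c • (s : A)
      rw [← hw, Algebra.smul_def, Finset.mul_sum]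
      exact Finset.sum_congr rfl fun i _ => by ring
    · refine ⟨q + q', fun i => add_mem (hq i) (hq' i), ?_⟩
      show _ = (s : A) + (t : A)
      rw [← hqe, ← hqe', ← Finset.sum_add_distrib]
      exact Finset.sum_congr rfl fun i _ => by rw [Pi.add_apply, mul_add]
  choose q hq hqe using key
  refine ⟨Matrix.of fun i j => l i j - q j i, ?_, fun j => ?_⟩
  · ext i j
    rw [Matrix.map_apply, Matrix.of_apply, map_sub, hl, Ideal.Quotient.eq_zero_iff_mem.2 (hq j i), sub_zero]
  · simp only [Matrix.of_apply, mul_sub, Finset.sum_sub_distrib, hqe, sub_self]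

end Flat

end Groth.Agent.HBDef
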