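import Groth.Agent.HBDef.Basic
import Groth.Agent.FlatLift.RegSeq
import Mathlib

/-!
# Lifting a matrix and its minors along a small extension of the base
-/

set_option autoImplicit false

universe u

open IsLocalRing Matrix

namespace Groth.Agent.HBDef

open HilbBurch

variable {A : Type u} [CommRing A]

theorem mulVec_map {B : Type u} [CommRing B] {m n : ℕ} (ψ : Matrix (Fin m) (Fin n) A) (f : A →+* B) (x : Fin n → A)
    (i : Fin m) : (ψ.map f).mulVec (fun j => f (x j)) i = f (ψ.mulVec x i) := by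
  rw [RingHom.map_mulVec]
  rfl

theorem sum_map_mulVec {B : Type u} [CommRing B] {m : ℕ} (f : A →+* B) (w a : Fin m → A) :
    ∑ i, f (w i) * f (a i) = f (∑ i, w i * a i) := by
  simp [map_sum, map_mul]

theorem span_eq_of_smul {B : Type u} [CommRing B] {t : ℕ} (ψ : Matrix (Fin (t + 1)) (Fin t) A) (f : A →+* B)
    (hnil : ∀ x, f x = 0 → IsNilpotent x) (a : Fin (t + 1) → A) (c : A) (hc : ∀ i, a i = c * Δ ψ i)
    (hinj : Function.Injective (ψ.map f).mulVecLin) (ha : ∀ i, f (a i) = Δ (ψ.map f) i) :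
    Ideal.span (Set.range a) = Ideal.span (Set.range (Δ ψ)) := by
  have h1 : f c - 1 = 0 := eq_zero_of_smul_Δ (ψ.map f) hinj _ fun i => by
    rw [sub_mul, one_mul, Δ_map, ← map_mul, ← hc, ha, Δ_map, sub_self]
  have hu : IsUnit c := by
    have := (hnil (c - 1) (by rw [map_sub, map_one, h1])).isUnit_one_add
    rwa [add_sub_cancel] at this
  refine le_antisymm (Ideal.span_le.2 ?_) (Ideal.span_le.2 ?_)
  · rintro _ ⟨i, rfl⟩
    rw [hc]
    exact Ideal.mul_mem_left _ _ (Ideal.subset_span ⟨i, rfl⟩)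
  · rintro _ ⟨i, rfl⟩
    rw [show Δ ψ i = ↑hu.unit⁻¹ * a i by rw [hc, ← mul_assoc, hu.val_inv_mul, one_mul]]
    exact Ideal.mul_mem_left _ _ (Ideal.subset_span ⟨i, rfl⟩)

variable {C : Type u} [CommRing C] [IsLocalRing C] [IsArtinianRing C] [Algebra C A] [Module.Flat C A]

theorem flat_quotient_map (J : Ideal C) : Module.Flat (C ⧸ J) (A ⧸ J.map (algebraMap C A)) :=
  Module.Flat.of_linearEquiv (Algebra.TensorProduct.quotIdealMapEquivQuotTensor A J).toLinearEquiv

/-- Lifting exactness of a matrix and its minors. -/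
theorem exact_lift (J : Ideal C) (hJne : J ≠ ⊤) (r : ℕ) (ψ : Matrix (Fin (r + 1)) (Fin r) A)
    (hinj : Function.Injective (ψ.map (Ideal.Quotient.mk (J.map (algebraMap C A)))).mulVecLin)
    (hex : LinearMap.range (ψ.map (Ideal.Quotient.mk (J.map (algebraMap C A)))).mulVecLin =
      LinearMap.ker (Fintype.linearCombination (A ⧸ J.map (algebraMap C A))
        (Δ (ψ.map (Ideal.Quotient.mk (J.map (algebraMap C A)))))))
    [Module.Flat (C ⧸ J) ((A ⧸ J.map (algebraMap C A)) ⧸
      Ideal.span (Set.range (Δ (ψ.map (Ideal.Quotient.mk (J.map (algebraMap C A)))))))] :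
    Function.Injective ψ.mulVecLin ∧
      LinearMap.range ψ.mulVecLin = LinearMap.ker (Fintype.linearCombination A (Δ ψ)) ∧
      Module.Flat C (A ⧸ Ideal.span (Set.range (Δ ψ))) := by
  obtain ⟨n, hn⟩ := FlatLift.exists_pow_eq_bot C
  haveI : Nontrivial (C ⧸ J) := Ideal.Quotient.nontrivial_iff.2 hJne
  haveI : IsLocalRing (C ⧸ J) := .of_surjective' (Ideal.Quotient.mk J) Ideal.Quotient.mk_surjective
  haveI := flat_quotient_map (A := A) J
  set P := (maximalIdeal C).map (algebraMap C A) with hP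
  set Q := J.map (algebraMap C A) with hQ
  have hQP : Q ≤ P := Ideal.map_mono (IsLocalRing.le_maximalIdeal hJne)
  set K := (maximalIdeal C).map (Ideal.Quotient.mk J) with hK
  have hKP : K.map (algebraMap (C ⧸ J) (A ⧸ Q)) = P.map (Ideal.Quotient.mk Q) := by
    rw [hK, hP, Ideal.map_map, Ideal.map_map]
    rfl
  have hmem : ∀ z : A, Ideal.Quotient.mk Q z ∈ K.map (algebraMap (C ⧸ J) (A ⧸ Q)) ↔ z ∈ P := fun z => by
    rw [hKP, ← Ideal.mem_comap, Ideal.comap_map_of_surjective' _ Ideal.Quotient.mk_surjective, Ideal.mk_ker,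
      sup_eq_left.2 hQP]
  obtain ⟨H1, H2⟩ := residue_of_exact K (ψ.map (Ideal.Quotient.mk Q)) _ hinj hex
  refine exact_of_residue hn ψ (Δ ψ) (sum_Δ_mul ψ) (fun x hx j => (hmem _).1 (H1 (fun j => Ideal.Quotient.mk Q (x j))
    (fun i => by rw [mulVec_map]; exact (hmem _).2 (hx i)) j)) fun w hw => ?_
  obtain ⟨xb, hxb⟩ := H2 (fun i => Ideal.Quotient.mk Q (w i)) (by
    simp only [Δ_map, sum_map_mulVec]
    exact (hmem _).2 hw)
  choose x hx using fun j => Ideal.Quotient.mk_surjective (xb j)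
  refine ⟨x, fun i => (hmem _).1 ?_⟩
  have := hxb i
  rw [show xb = fun j => Ideal.Quotient.mk Q (x j) from funext fun j => (hx j).symm, mulVec_map, ← map_sub] at this
  exact this

end Groth.Agent.HBDef
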